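import Groth.Agent.Lib.NilpMT21.Rigid
import Groth.Agent.Lib.AbSchRigid22.Basic
import Groth.Agent.Lib.AbRigid.Maximal
import Mathlib.GroupTheory.Nilpotent

/-!
# Subgroups of multiplicative type of connected nilpotent groups are central
-/

set_option autoImplicit false
set_option linter.style.haveILetI false
set_option linter.unusedSectionVars false
set_option backward.isDefEq.respectTransparency.types false

universe u

open CategoryTheory Limits MonoidalCategory CartesianMonoidalCategory MonObj AlgebraicGeometry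
open scoped commutatorElement

noncomputable section

namespace Groth.Agent.NilpMT21

variable {k : Type u} [Field k] {G H : Over (Spec (CommRingCat.of k))} [GrpObj G] [GrpObj H]

/-- Precomposition as a homomorphism. -/
def pre {T X : Over (Spec (CommRingCat.of k))} (t : T ⟶ X) : (X ⟶ G) →* (T ⟶ G) :=
  MonoidHom.mk' (fun v => t ≫ v) fun v w => MonObj.comp_mul t v w

/-- A connected group over a field is geometrically connected. -/
theorem geometricallyConnected_of_connected [ConnectedSpace ↥G.left] : GeometricallyConnected G.hom := by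
  haveI : GeometricallyConnected (η[G].left ≫ G.hom) := by
    rw [Over.w η[G]]
    exact AbSchRigid22.geometricallyConnected_id _
  exact GeomIrr.geometricallyConnected_of_hom (k := k) G.hom η[G].left (IsLocalRing.closedPoint k)

theorem map_mem_lcs {A B : Type u} [Group A] [Group B] (φ : A →* B) : ∀ (n : ℕ) {x : A},
    x ∈ (⊤ : Subgroup A).lowerCentralSeries n → φ x ∈ (⊤ : Subgroup B).lowerCentralSeries n := by
  intro n
  induction n with
  | zero => intro x _; trivial
  | succ n ih =>
    intro x hx
    have hle : (⊤ : Subgroup A).lowerCentralSeries (n + 1) ≤ ((⊤ : Subgroup B).lowerCentralSeries (n + 1)).comap φ := by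
      rw [Subgroup.lowerCentralSeries_succ, Subgroup.commutator_le]
      intro p hp q _
      rw [Subgroup.mem_comap, map_commutatorElement, Subgroup.lowerCentralSeries_succ]
      exact Subgroup.commutator_mem_commutator (ih hp) (Subgroup.mem_top (φ q))
    exact hle hx

variable (m : H ⟶ G)

/-- The point commutes with the subgroup. -/
def Cent {X : Over (Spec (CommRingCat.of k))} (v : X ⟶ G) : Prop :=
  ∀ (T : Over (Spec (CommRingCat.of k))) (t : T ⟶ X) (a : T ⟶ H), Commute (t ≫ v) (a ≫ m)

set_option maxHeartbeats 1000000 in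
/-- A family vanishing along the unit section, whose commutators are centralised, is centralised. -/
theorem cent_family [IsMonHom m] [LocallyOfFiniteType G.hom] [ConnectedSpace ↥G.left] (hH : SGA3x.IsMultTypeFT H)
    {j : ℕ} (ih : ∀ (X : Over (Spec (CommRingCat.of k))) (v : X ⟶ G),
      v ∈ (⊤ : Subgroup (X ⟶ G)).lowerCentralSeries (j + 1) → Cent m v)
    (X : Over (Spec (CommRingCat.of k))) (w : X ⊗ G ⟶ G)
    (hw : w ∈ (⊤ : Subgroup (X ⊗ G ⟶ G)).lowerCentralSeries j)
    (hw1 : ∀ (T : Over (Spec (CommRingCat.of k))) (p : T ⟶ X), lift p (1 : T ⟶ G) ≫ w = 1) : Cent m w := by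
  haveI : IsSeparated G.hom := AbRigid.isSeparated_of_grpObj G
  haveI := geometricallyConnected_of_connected (G := G)
  haveI : GeometricallyConnected (fst X G).left :=
    inferInstanceAs (GeometricallyConnected (pullback.fst X.hom G.hom))
  let f : H ⊗ (X ⊗ G) ⟶ G :=
    (snd H (X ⊗ G) ≫ w) * (fst H (X ⊗ G) ≫ m) * (snd H (X ⊗ G) ≫ w)⁻¹ * (fst H (X ⊗ G) ≫ m)⁻¹
  have hf : ∀ (T : Over (Spec (CommRingCat.of k))) (a : T ⟶ H) (p : T ⟶ X ⊗ G),
      lift a p ≫ f = ⁅p ≫ w, a ≫ m⁆ := fun T a p => by
    simp only [f, MonObj.comp_mul, GrpObj.comp_inv, ← Category.assoc, lift_fst, lift_snd]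
    rfl
  have key := family_eq_one hH (fst X G) (lift (𝟙 X) (1 : X ⟶ G)) (lift_fst _ _) f (fun T a b p => by
    rw [hf, hf, hf, MonObj.mul_comp]
    have hc : Commute ⁅p ≫ w, b ≫ m⁆ (a ≫ m) := by
      have h1 : ⁅p ≫ w, b ≫ m⁆ ∈ (⊤ : Subgroup (T ⟶ G)).lowerCentralSeries (j + 1) := by
        rw [Subgroup.lowerCentralSeries_succ]
        exact Subgroup.commutator_mem_commutator (map_mem_lcs (pre p) j hw) (Subgroup.mem_top _)
      have h2 := ih T _ h1 T (𝟙 T) a
      rwa [Category.id_comp] at h2
    calc ⁅p ≫ w, (a ≫ m) * (b ≫ m)⁆ = ⁅p ≫ w, a ≫ m⁆ * ((a ≫ m) * ⁅p ≫ w, b ≫ m⁆ * (a ≫ m)⁻¹) := by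
          simp only [commutatorElement_def]; group
      _ = _ := by rw [← hc.eq, mul_inv_cancel_right])
    (fun T a p => by
      rw [hf, comp_lift, Category.comp_id, MonObj.comp_one, hw1]
      simp only [commutatorElement_def]; group)
  intro T t a
  have h := key T a t
  rw [hf, commutatorElement_eq_one_iff_mul_comm] at h
  exact h

/-- A subgroup of multiplicative type of a connected nilpotent group is central. -/
theorem central_of_nilpotent [IsMonHom m] [LocallyOfFiniteType G.hom] [ConnectedSpace ↥G.left]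
    (hH : SGA3x.IsMultTypeFT H)
    (hnil : ∃ n : ℕ, ∀ X : Over (Spec (CommRingCat.of k)), (⊤ : Subgroup (X ⟶ G)).lowerCentralSeries n = ⊥)
    (X : Over (Spec (CommRingCat.of k))) (a : X ⟶ H) (g : X ⟶ G) : (a ≫ m) * g = g * (a ≫ m) := by
  obtain ⟨n, hn⟩ := hnil
  have key : ∀ j, (∀ (X : Over (Spec (CommRingCat.of k))) (v : X ⟶ G),
      v ∈ (⊤ : Subgroup (X ⟶ G)).lowerCentralSeries (j + 1) → Cent m v) →
      ∀ (X : Over (Spec (CommRingCat.of k))) (v : X ⟶ G),
        v ∈ (⊤ : Subgroup (X ⟶ G)).lowerCentralSeries j → Cent m v := by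
    intro j ih X v hv
    cases j with
    | zero =>
      intro T t b
      have h := cent_family m hH ih X (snd X G) (Subgroup.mem_top _) (fun T p => lift_snd _ _) T (lift t (t ≫ v)) b
      rwa [lift_snd] at h
    | succ i =>
      intro T t b
      let C : Subgroup (T ⟶ G) := Subgroup.centralizer {b ≫ m}
      suffices h : (t ≫ v) ∈ C from (Subgroup.mem_centralizer_iff.1 h _ rfl).symm
      have hle : (⊤ : Subgroup (X ⟶ G)).lowerCentralSeries (i + 1) ≤ C.comap (pre t) := by
        rw [Subgroup.lowerCentralSeries_succ, Subgroup.commutator_le]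
        intro p hp q _
        have h := cent_family m hH ih X ⁅fst X G ≫ p, snd X G⁆ (by
            rw [Subgroup.lowerCentralSeries_succ]
            exact Subgroup.commutator_mem_commutator (map_mem_lcs (pre (fst X G)) i hp) (Subgroup.mem_top _))
          (fun T' p' => by
            show pre (lift p' (1 : T' ⟶ G)) _ = 1
            rw [map_commutatorElement]
            show ⁅_, lift p' (1 : T' ⟶ G) ≫ snd X G⁆ = 1
            rw [lift_snd, commutatorElement_one_right])
          T (lift t (t ≫ q)) b
        have e : lift t (t ≫ q) ≫ ⁅fst X G ≫ p, snd X G⁆ = t ≫ ⁅p, q⁆ := by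
          show pre (lift t (t ≫ q)) _ = pre t _
          rw [map_commutatorElement, map_commutatorElement]
          show ⁅lift t (t ≫ q) ≫ fst X G ≫ p, lift t (t ≫ q) ≫ snd X G⁆ = ⁅t ≫ p, t ≫ q⁆
          rw [lift_fst_assoc, lift_snd]
        rw [e] at h
        exact Subgroup.mem_centralizer_iff.2 fun z hz => by rw [Set.mem_singleton_iff.1 hz]; exact h.symm
      exact hle hv
  have hall : ∀ d j, n ≤ j + d → ∀ (X : Over (Spec (CommRingCat.of k))) (v : X ⟶ G),
      v ∈ (⊤ : Subgroup (X ⟶ G)).lowerCentralSeries j → Cent m v := by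
    intro d
    induction d with
    | zero =>
      intro j hj Y v hv T t b
      have h1 : v ∈ (⊤ : Subgroup (Y ⟶ G)).lowerCentralSeries n := Subgroup.lowerCentralSeries_antitone _ hj hv
      rw [hn Y, Subgroup.mem_bot] at h1
      rw [h1, MonObj.comp_one]
      exact Commute.one_left _
    | succ d ih => exact fun j hj => key j (ih (j + 1) (by omega))
  have h := hall n 0 (by omega) X g (Subgroup.mem_top _) X (𝟙 X) a
  rw [Category.id_comp] at h
  exact h.eq.symm

end Groth.Agent.NilpMT21
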