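import Groth.Agent.Lib.MTRigid29.CentralDesc
import Groth.Agent.Lib.MTRigid29.BaseChange

/-!
# Families of homomorphisms from groups of multiplicative type vanishing along a section
-/

set_option autoImplicit false
set_option linter.style.haveILetI false
set_option linter.unusedSectionVars false
set_option backward.isDefEq.respectTransparency.types false
set_option maxSynthPendingDepth 3

universe u

open CategoryTheory Limits MonoidalCategory CartesianMonoidalCategory MonObj AlgebraicGeometry Opposite

noncomputable section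

namespace Groth.Agent.NilpMT21

open DiagGL MTRigid29

variable {S : Scheme.{u}} {H G P P₀ : Over S} [GrpObj H] [GrpObj G]

/-- The parameter of an object over the parameter scheme. -/
abbrev str (P : Over S) (Y : Over P.left) : (Over.map P.hom).obj Y ⟶ P := Over.homMk Y.hom rfl

set_option maxHeartbeats 1000000 in
/-- A family of homomorphisms vanishing along a section with connected fibres vanishes. -/
theorem family_eq_one [IsSeparated G.hom] [LocallyOfFiniteType G.hom] (hH : SGA3x.IsMultTypeFT H)
    (π : P ⟶ P₀) (σ : P₀ ⟶ P) (hσ : σ ≫ π = 𝟙 P₀) [GeometricallyConnected π.left] (f : H ⊗ P ⟶ G)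
    (hmul : ∀ (T : Over S) (a b : T ⟶ H) (p : T ⟶ P), lift (a * b) p ≫ f = (lift a p ≫ f) * (lift b p ≫ f))
    (hone : ∀ (T : Over S) (a : T ⟶ H) (p : T ⟶ P₀), lift a (p ≫ σ) ≫ f = 1)
    (T : Over S) (a : T ⟶ H) (p : T ⟶ P) : lift a p ≫ f = 1 := by
  let ud : Red.bc P.hom H ⟶ Red.bc P.hom G :=
    (Over.mapPullbackAdj P.hom).homEquiv _ _ (lift (fl P.hom H (𝟙 _)) (str P (Red.bc P.hom H)) ≫ f)
  have hud : ∀ {Y : Over P.left} (y : Y ⟶ Red.bc P.hom H),
      fl P.hom G (y ≫ ud) = lift (fl P.hom H y) (str P Y) ≫ f := by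
    intro Y y
    rw [fl_comp, show fl P.hom G ud = lift (fl P.hom H (𝟙 _)) (str P (Red.bc P.hom H)) ≫ f from
      Equiv.symm_apply_apply _ _, ← Category.assoc, comp_lift, ← fl_comp, Category.comp_id]
    congr 2
    exact Over.OverMorphism.ext (Over.w y)
  haveI : IsMonHom ud := TorsorSch25.isMonHom_of_points ud fun Y x y => fl_injective P.hom G (by
    rw [fl_mul, hud, hud, hud, fl_mul, hmul])
  haveI : IsSeparated (Red.bc P.hom G).hom := MorphismProperty.pullback_snd G.hom P.hom inferInstance
  obtain ⟨U, hUc, hU, hUt⟩ := exists_triv_locus ud (isMultTypeFT_bc hH P.hom)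
    (.inr (MorphismProperty.pullback_snd G.hom P.hom inferInstance))
  have hσπ : σ.left ≫ π.left = 𝟙 P₀.left := by rw [← Over.comp_left, hσ]; rfl
  have hσt : Triv ud σ.left := by
    intro Y y
    refine fl_injective P.hom G ?_
    rw [hud, fl_one]
    let p₀ : (Over.map P.hom).obj ((Over.map σ.left).obj Y) ⟶ P₀ := Over.homMk Y.hom (by
      show Y.hom ≫ P₀.hom = (Y.hom ≫ σ.left) ≫ P.hom
      rw [Category.assoc, Over.w σ])
    rw [show str P ((Over.map σ.left).obj Y) = p₀ ≫ σ from Over.OverMorphism.ext rfl]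
    exact hone _ _ _
  have hσU : ∀ x : P₀.left, σ.left x ∈ U := by
    intro x
    rw [hU]
    haveI : IsImmersion (σ.left ≫ π.left) := by rw [hσπ]; infer_instance
    haveI : IsImmersion σ.left := IsImmersion.of_comp σ.left π.left
    haveI : IsIso (σ.left.residueFieldMap x) := by
      refine (ConcreteCategory.isIso_iff_bijective (σ.left.residueFieldMap x)).2
        ⟨(σ.left.residueFieldMap x).hom.injective, ?_⟩
      have h1 : Function.Surjective (σ.left.stalkMap x ≫ P₀.left.residue x) := by
        simp only [CommRingCat.hom_comp, RingHom.coe_comp]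
        exact (Scheme.residue_surjective _ _).comp (σ.left.stalkMap_surjective x)
      rw [← Scheme.residue_residueFieldMap] at h1
      exact Function.Surjective.of_comp (g := ⇑(P.left.residue (σ.left x)).hom) h1
    have h2 := triv_comp ud hσt (P₀.left.fromSpecResidueField x)
    rw [← Scheme.Hom.SpecMap_residueFieldMap_fromSpecResidueField] at h2
    have h3 := triv_comp ud h2 (inv (Spec.map (σ.left.residueFieldMap x)))
    rwa [IsIso.inv_hom_id_assoc] at h3
  have htop : ∀ z : P.left, z ∈ U := by
    intro z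
    have hcn := (π.left.isConnected_preimage_singleton (π.left z)).isPreconnected
    refine hcn.subset_isClopen (⟨hUc, U.2⟩ : IsClopen (U : Set P.left)) ⟨σ.left (π.left z), ?_, hσU _⟩ rfl
    show π.left (σ.left (π.left z)) = π.left z
    rw [← Scheme.Hom.comp_apply σ.left π.left, hσπ]
    rfl
  have hall : Triv ud (𝟙 P.left) := triv_of_cover ud (𝟙 P.left) fun z =>
    ⟨_, U.ι, inferInstance, ⟨⟨z, htop z⟩, rfl⟩, hUt⟩
  let i : (Over.map P.hom).obj (Over.mk p.left) ≅ T := Over.isoMk (Iso.refl _) (by
    show 𝟙 _ ≫ T.hom = p.left ≫ P.hom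
    rw [Category.id_comp, Over.w p])
  obtain ⟨y, hy⟩ := fl_surjective P.hom H (i.hom ≫ a)
  let i' : Over.mk p.left ≅ (Over.map (𝟙 P.left)).obj (Over.mk p.left) := Over.isoMk (Iso.refl _) (by simp)
  have h1 : y ≫ ud = 1 := by
    have := congrArg (i'.hom ≫ ·) (hall (Over.mk p.left) (i'.inv ≫ y))
    simpa [MonObj.comp_one] using this
  have h2 := hud y
  rw [h1, fl_one, hy, show str P (Over.mk p.left) = i.hom ≫ p from Over.OverMorphism.ext (Category.id_comp _).symm,
    ← comp_lift, Category.assoc] at h2
  rw [← cancel_epi i.hom, ← h2, MonObj.comp_one]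

end Groth.Agent.NilpMT21
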